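import Groth.Prelude.Def_K0Var
import Mathlib.AlgebraicGeometry.Morphisms.Immersion
import Mathlib.AlgebraicGeometry.Noetherian
import Mathlib.AlgebraicGeometry.IdealSheaf.Subscheme

/-! Cutting classes in the Grothendieck ring of varieties along opens. -/

set_option autoImplicit false

universe u

open CategoryTheory CategoryTheory.Limits AlgebraicGeometry

namespace Groth.Agent.K0Sym

variable {S X : Scheme.{u}} [IsLocallyNoetherian X] (f : X ⟶ S) [LocallyOfFiniteType f] [QuasiCompact f]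

/-- The class of an open piece. -/
noncomputable def clo (U : X.Opens) : K0Var.K S := K0Var.cl (U.ι ≫ f)

theorem clo_empty (U : X.Opens) (hU : U = ⊥) : clo f U = 0 := by
  subst hU
  haveI : IsEmpty (K0Var.Gen.mk ((⊥ : X.Opens) : Scheme.{u}) ((⊥ : X.Opens).ι ≫ f)).X :=
    ⟨fun x => x.2⟩
  exact K0Var.Gen.cl_eq_zero_of_isEmpty _

theorem clo_top : clo f ⊤ = K0Var.cl f :=
  K0Var.cl_congr _ _ (Scheme.topIso X) rfl

/-- Inclusion–exclusion for two opens. -/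
theorem clo_sup (U V : X.Opens) : clo f (U ⊔ V) + clo f (U ⊓ V) = clo f U + clo f V := by
  let C : TopologicalSpace.Closeds U := ⟨(U.ι ⁻¹ᵁ V : Set U)ᶜ, (U.ι ⁻¹ᵁ V).isOpen.isClosed_compl⟩
  let I := Scheme.IdealSheafData.vanishingIdeal (X := U.toScheme) C
  have hI : Set.range I.subschemeι = (U.ι ⁻¹ᵁ V : Set U)ᶜ := by
    rw [Scheme.IdealSheafData.range_subschemeι]; exact Scheme.IdealSheafData.coe_support_vanishingIdeal C
  let j₁ := X.homOfLE (inf_le_left : U ⊓ V ≤ U)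
  let j₂ := X.homOfLE (le_sup_right : V ≤ U ⊔ V)
  let i₂ := I.subschemeι ≫ X.homOfLE (le_sup_left : U ≤ U ⊔ V)
  have h1 : Set.range I.subschemeι = (Set.range j₁)ᶜ := by
    rw [hI]; congr 1; ext x
    constructor
    · intro h; exact ⟨⟨x.1, x.2, h⟩, Subtype.ext (by change U.ι (X.homOfLE _ _) = _; rw [← Scheme.Hom.comp_apply, Scheme.homOfLE_ι]; rfl)⟩
    · rintro ⟨y, rfl⟩
      show U.ι (X.homOfLE _ y) ∈ V
      rw [← Scheme.Hom.comp_apply, Scheme.homOfLE_ι]; exact y.2.2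
  have e2 : ∀ z : I.subscheme, (U ⊔ V).ι (i₂ z) = U.ι (I.subschemeι z) := fun z => by
    rw [← Scheme.Hom.comp_apply, ← Scheme.Hom.comp_apply]
    simp only [i₂, Category.assoc, Scheme.homOfLE_ι]
  have h2 : Set.range i₂ = (Set.range j₂)ᶜ := by
    ext x
    constructor
    · rintro ⟨z, rfl⟩ ⟨y, hy⟩
      have hz : I.subschemeι z ∈ (U.ι ⁻¹ᵁ V : Set U)ᶜ := by rw [← hI]; exact ⟨z, rfl⟩
      refine hz ?_
      show U.ι (I.subschemeι z) ∈ V
      rw [← e2, ← hy, ← Scheme.Hom.comp_apply, Scheme.homOfLE_ι]; exact y.2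
    · intro hx
      have hxV : x.1 ∉ V := fun h => hx ⟨⟨x.1, h⟩, Subtype.ext (by change (U ⊔ V).ι (X.homOfLE _ _) = _; rw [← Scheme.Hom.comp_apply, Scheme.homOfLE_ι]; rfl)⟩
      have hxU : x.1 ∈ U := (x.2 : x.1 ∈ (U : Set X) ∪ V).resolve_right hxV
      have : (⟨x.1, hxU⟩ : U) ∈ Set.range I.subschemeι := by rw [hI]; exact hxV
      obtain ⟨z, hz⟩ := this
      exact ⟨z, Subtype.ext (by rw [show (i₂ z).1 = (U ⊔ V).ι (i₂ z) from rfl, e2, hz]; rfl)⟩
  haveI : IsPreimmersion i₂ := inferInstanceAs (IsPreimmersion (I.subschemeι ≫ X.homOfLE _))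
  haveI : IsClosedImmersion i₂ :=
    IsClosedImmersion.of_isPreimmersion i₂ (by rw [h2]; exact (j₂.isOpenEmbedding.isOpen_range).isClosed_compl)
  have a := K0Var.cl_scissor (U.ι ≫ f) I.subschemeι j₁ h1
  have b := K0Var.cl_scissor ((U ⊔ V).ι ≫ f) i₂ j₂ h2
  have c : K0Var.cl (I.subschemeι ≫ U.ι ≫ f) = K0Var.cl (i₂ ≫ (U ⊔ V).ι ≫ f) :=
    K0Var.cl_congr _ _ (Iso.refl _) (by simp [i₂])
  have d : K0Var.cl (j₁ ≫ U.ι ≫ f) = clo f (U ⊓ V) :=
    K0Var.cl_congr _ _ (Iso.refl _) (by simp [j₁])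
  have e : K0Var.cl (j₂ ≫ (U ⊔ V).ι ≫ f) = clo f V :=
    K0Var.cl_congr _ _ (Iso.refl _) (by simp [j₂])
  unfold clo at d e ⊢
  rw [a, b, c, d, e]; ring

theorem clo_sup_disjoint (U V : X.Opens) (h : U ⊓ V = ⊥) : clo f (U ⊔ V) = clo f U + clo f V := by
  rw [← clo_sup f U V, clo_empty f _ h, add_zero]

theorem clo_biSup {ι : Type*} (s : Finset ι) (U : ι → X.Opens)
    (hd : ∀ a b, a ≠ b → U a ⊓ U b = ⊥) : clo f (s.sup U) = ∑ a ∈ s, clo f (U a) := by
  classical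
  induction s using Finset.induction with
  | empty => simp [clo_empty f _ rfl]
  | insert a s ha ih =>
    rw [Finset.sup_insert, Finset.sum_insert ha, clo_sup_disjoint, ih]
    rw [Finset.sup_eq_iSup, inf_iSup₂_eq, iSup₂_eq_bot]
    exact fun b hb => hd a b fun h => ha (h ▸ hb)

end Groth.Agent.K0Sym
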