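import Groth.Agent.QuotScheme.Criterion
import Mathlib.AlgebraicGeometry.Morphisms.ClosedImmersion

/-! If a finite group `G` permutes the translates of a clopen piece `E` of `W` simply transitively modulo
the stabiliser `H`, the quotient of `W` by `G` is the quotient of `E` by `H`. -/

set_option autoImplicit false
set_option backward.isDefEq.respectTransparency false
set_option backward.isDefEq.respectTransparency.types false

universe u

open CategoryTheory CategoryTheory.Limits AlgebraicGeometry TopologicalSpace Opposite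

namespace Groth.Agent.K0Sym

open Groth.Agent.QuotScheme (appLE_congr_hom rho_mul_hom rho_one_hom)

variable {G H : Type u} [Group G] [Group H] {W E T : Scheme.{u}} {ρ : G →* Aut W} {p : W ⟶ T}

theorem ext_pull {f : E ⟶ W} [IsOpenImmersion f] {O : W.Opens} (hO : O ≤ f.opensRange) {a b : Γ(W, O)}
    (V : E.Opens) (hV : V = f ⁻¹ᵁ O) (h : (f.appLE O V hV.le).hom a = (f.appLE O V hV.le).hom b) : a = b := by
  subst hV
  have h' := congrArg ((f.appIso (f ⁻¹ᵁ O)).inv).hom h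
  rw [← CommRingCat.comp_apply, ← CommRingCat.comp_apply, Scheme.Hom.appLE_appIso_inv] at h'
  have e : O ≤ f ''ᵁ (f ⁻¹ᵁ O) := by rw [Scheme.Hom.image_preimage_eq_opensRange_inf]; exact le_inf hO le_rfl
  have h'' := congrArg (W.presheaf.map (homOfLE e).op).hom h'
  rw [← CommRingCat.comp_apply, ← CommRingCat.comp_apply, ← Functor.map_comp,
    Subsingleton.elim (_ ≫ _) (𝟙 (op O)), W.presheaf.map_id] at h''
  exact h''

theorem pull_sf {f : E ⟶ W} [IsOpenImmersion f] {V : E.Opens} (s : Γ(E, V)) {A : W.Opens} (hA : A ≤ f ''ᵁ V)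
    (B : E.Opens) (hB : B ≤ f ⁻¹ᵁ A) (hBV : B ≤ V) :
    (f.appLE A B hB).hom ((W.presheaf.map (homOfLE hA).op).hom ((f.appIso V).inv.hom s)) =
      (E.presheaf.map (homOfLE hBV).op).hom s := by
  rw [← CommRingCat.comp_apply, Scheme.Hom.map_appLE, ← CommRingCat.comp_apply, Scheme.Hom.appIso_inv_appLE]

theorem isQuot_of_induced (hp : SGA1.IsQuot ρ p) (e : E ⟶ W) [IsOpenImmersion e] [IsClosedImmersion e]
    (iH : H →* G) (ρE : H →* Aut E) (heq : ∀ h, (ρE h).hom ≫ e = e ≫ (ρ (iH h)).hom)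
    (hcover : ∀ w, ∃ g, w ∈ Set.range (e ≫ (ρ g).hom))
    (hstab : ∀ g x y, (ρ g).hom (e x) = e y → ∃ h, iH h = g) :
    SGA1.IsQuot ρE (e ≫ p) := by
  classical
  haveI := hp.affine
  let eg : G → (E ⟶ W) := fun g => e ≫ (ρ g).hom
  have hegp : ∀ g, eg g ≫ p = e ≫ p := fun g => by rw [Category.assoc, hp.inv]
  have hO : ∀ g (U : T.Opens), (eg g) ⁻¹ᵁ (p ⁻¹ᵁ U) = (e ≫ p) ⁻¹ᵁ U := fun g U => by
    rw [← Scheme.Hom.comp_preimage, hegp]
  have hinv : ∀ h, (ρE h).hom ≫ e ≫ p = e ≫ p := fun h => by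
    rw [reassoc_of% (heq h), hp.inv]
  have hmul : ∀ g h, eg (g * iH h) = (ρE h).hom ≫ eg g := fun g h => by
    simp only [eg]; rw [rho_mul_hom, reassoc_of% (heq h)]
  -- sections are determined by their pullbacks to the translates
  have hjoint : ∀ (U : T.Opens) (s s' : Γ(W, p ⁻¹ᵁ U)),
      (∀ g, ((eg g).appLE (p ⁻¹ᵁ U) ((e ≫ p) ⁻¹ᵁ U) (hO g U).ge).hom s =
        ((eg g).appLE (p ⁻¹ᵁ U) ((e ≫ p) ⁻¹ᵁ U) (hO g U).ge).hom s') → s = s' := by
    intro U s s' h
    refine W.IsSheaf.section_ext fun w hw => ?_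
    obtain ⟨g, x, rfl⟩ := hcover w
    have hle : eg g ''ᵁ ((e ≫ p) ⁻¹ᵁ U) ≤ p ⁻¹ᵁ U := by rintro _ ⟨y, hy, rfl⟩; exact (hO g U).ge hy
    refine ⟨eg g ''ᵁ ((e ≫ p) ⁻¹ᵁ U), hle, ⟨x, (hO g U).le hw, rfl⟩, ?_⟩
    refine ext_pull (f := eg g) (by rintro _ ⟨y, -, rfl⟩; exact ⟨y, rfl⟩) _
      ((eg g).preimage_image_eq _).symm ?_
    rw [← CommRingCat.comp_apply, ← CommRingCat.comp_apply, Scheme.Hom.map_appLE]
    exact h g
  refine ⟨inferInstance, hinv, fun U t t' htt => ?_, fun U s => ⟨?_, fun hs => ?_⟩⟩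
  · refine hp.injective U (hjoint U _ _ fun g => ?_)
    rw [Scheme.Hom.app_eq_appLE, ← CommRingCat.comp_apply, ← CommRingCat.comp_apply,
      Scheme.Hom.appLE_comp_appLE, appLE_congr_hom (hegp g) _ _ _ le_rfl, ← Scheme.Hom.app_eq_appLE]
    exact htt
  · rintro ⟨t, rfl⟩ h
    rw [Scheme.Hom.app_eq_appLE, ← CommRingCat.comp_apply, Scheme.Hom.appLE_comp_appLE,
      appLE_congr_hom (hinv h) U _ _ (le_refl _)]
  · let V := (e ≫ p) ⁻¹ᵁ U
    let O : G → W.Opens := fun g => eg g ''ᵁ V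
    have hOle : ∀ g, O g ≤ p ⁻¹ᵁ U := by
      rintro g _ ⟨y, hy, rfl⟩; exact (hO g U).ge hy
    let sf : ∀ g, Γ(W, O g) := fun g => ((eg g).appIso V).inv.hom s
    have hcompat : TopCat.Presheaf.IsCompatible W.presheaf O sf := by
      intro g g'
      by_cases hne : ∃ x, x ∈ O g ⊓ O g'
      · obtain ⟨z, ⟨x, -, hx⟩, y, -, hy⟩ := hne
        obtain ⟨h, hh⟩ := hstab (g'⁻¹ * g) x y (by
          have hxy : (ρ g).hom (e x) = (ρ g').hom (e y) := hx.trans hy.symm
          have h1 : (ρ (g'⁻¹ * g')).hom (e y) = e y := by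
            rw [show (ρ (g'⁻¹ * g')).hom = 𝟙 W by rw [inv_mul_cancel]; exact rho_one_hom]; rfl
          rw [rho_mul_hom, Scheme.Hom.comp_apply, hxy, ← Scheme.Hom.comp_apply, ← rho_mul_hom]
          exact h1)
        have hg : g = g' * iH h := by rw [hh, mul_inv_cancel_left]
        subst hg
        have hin : ∀ z, z ∈ O (g' * iH h) ⊓ O g' → z ∈ (eg (g' * iH h)).opensRange := by
          rintro z ⟨⟨y, -, rfl⟩, -⟩; exact ⟨y, rfl⟩
        refine ext_pull (f := eg (g' * iH h)) hin _ rfl ?_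
        have hBV : (eg (g' * iH h)) ⁻¹ᵁ (O (g' * iH h) ⊓ O g') ≤ V := fun z hz => by
          obtain ⟨z', hz', he⟩ := hz.1
          rwa [← (eg (g' * iH h)).isOpenEmbedding.injective he]
        refine (pull_sf s inf_le_left _ le_rfl hBV).trans ?_
        have hB' : (eg (g' * iH h)) ⁻¹ᵁ (O (g' * iH h) ⊓ O g') ≤ (ρE h).hom ⁻¹ᵁ ((eg g') ⁻¹ᵁ (O (g' * iH h) ⊓ O g')) := by
          rw [← Scheme.Hom.comp_preimage, hmul]
        have hB'V : (eg g') ⁻¹ᵁ (O (g' * iH h) ⊓ O g') ≤ V := fun z hz => by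
          obtain ⟨z', hz', he⟩ := hz.2
          rwa [← (eg g').isOpenEmbedding.injective he]
        rw [appLE_congr_hom (hmul g' h) _ _ _ (le_of_le_of_eq hB' (Scheme.Hom.comp_preimage _ _ _).symm),
          ← Scheme.Hom.appLE_comp_appLE (ρE h).hom (eg g') _ _ _ le_rfl hB', CommRingCat.comp_apply]
        refine Eq.trans ?_ (congrArg _ (pull_sf s inf_le_right _ le_rfl hB'V).symm)
        rw [← CommRingCat.comp_apply, Scheme.Hom.map_appLE]
        have e2 := hs h
        conv_lhs => rw [← e2]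
        rw [← CommRingCat.comp_apply, Scheme.Hom.appLE_map]
      · have : O g ⊓ O g' = ⊥ := le_bot_iff.1 fun z hz => hne ⟨z, hz⟩
        have ht := W.sheaf.isTerminalOfEqEmpty this
        haveI : Subsingleton Γ(W, O g ⊓ O g') := CommRingCat.subsingleton_of_isTerminal ht
        exact Subsingleton.elim _ _
    obtain ⟨s', hs', -⟩ := W.sheaf.existsUnique_gluing' O (p ⁻¹ᵁ U) (fun g => homOfLE (hOle g))
      (fun w hw => by
        obtain ⟨g, x, rfl⟩ := hcover w
        exact Opens.mem_iSup.2 ⟨g, x, (hO g U).le hw, rfl⟩) sf hcompat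
    have hpull : ∀ g, ((eg g).appLE (p ⁻¹ᵁ U) V (hO g U).ge).hom s' = s := fun g => by
      have e1 := congrArg ((eg g).appLE (O g) V ((eg g).preimage_image_eq V).ge).hom (hs' g)
      refine Eq.trans ?_ (e1.trans ?_)
      · exact congr($((Scheme.Hom.map_appLE (eg g) ((eg g).preimage_image_eq V).ge (homOfLE (hOle g)).op).symm) s')
      · rw [← CommRingCat.comp_apply, Scheme.Hom.appIso_inv_appLE,
          Subsingleton.elim (homOfLE _).op (𝟙 (op V)), E.presheaf.map_id]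
        rfl
    obtain ⟨t, ht⟩ := (hp.range_iff U s').2 fun a => hjoint U _ _ fun g => by
      rw [hpull g, ← CommRingCat.comp_apply, Scheme.Hom.appLE_comp_appLE,
        appLE_congr_hom (show eg g ≫ (ρ a).hom = eg (a * g) by
          simp only [eg]; rw [Category.assoc, ← rho_mul_hom]) _ _ _ (hO (a * g) U).ge]
      exact hpull _
    refine ⟨t, ?_⟩
    rw [← hpull 1, ← ht, Scheme.Hom.app_eq_appLE, Scheme.Hom.app_eq_appLE, ← CommRingCat.comp_apply,
      Scheme.Hom.appLE_comp_appLE]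
    exact congr($(appLE_congr_hom (show e ≫ p = eg 1 ≫ p by rw [hegp]) U _ _ _) t)

end Groth.Agent.K0Sym
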