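import Groth.Agent.K0Sym.Cl
import Groth.Agent.K0Sym.Induced
import Groth.Agent.SymProdLib.Prod
import Groth.Agent.CoprodLib.Basic

/-! Symmetric powers of a disjoint union, in the Grothendieck ring. -/

set_option autoImplicit false
set_option backward.isDefEq.respectTransparency false
set_option backward.isDefEq.respectTransparency.types false

universe u

open CategoryTheory CategoryTheory.Limits AlgebraicGeometry SymProd

namespace Groth.Agent.K0Sym

variable {X X' Y : Scheme.{u}} (f : X ⟶ Y) (f' : X' ⟶ Y)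

/-- `w` has its `k`-th coordinate in the first summand. -/
def InL {n : ℕ} (k : Fin n) (w : fibPow (coprod.desc f f') n) : Prop :=
  (WidePullback.π (fun _ : Fin n => coprod.desc f f') k) w ∈ Set.range (coprod.inl : X ⟶ X ⨿ X')

/-- The coordinates of `w` lying in the first summand. -/
noncomputable def lset {n : ℕ} (w : fibPow (coprod.desc f f') n) : Finset (Fin n) := by
  classical exact Finset.univ.filter fun k => InL f f' k w

theorem mem_lset {n : ℕ} (w : fibPow (coprod.desc f f') n) (k : Fin n) : k ∈ lset f f' w ↔ InL f f' k w := by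
  simp [lset]

theorem isClopen_inL {n : ℕ} (k : Fin n) : IsClopen {w : fibPow (coprod.desc f f') n | InL f f' k w} :=
  IsClopen.preimage ⟨CoprodLib.isClosedEmbedding_inl.isClosed_range, (coprod.inl : X ⟶ X ⨿ X').isOpenEmbedding.isOpen_range⟩
    (WidePullback.π (fun _ : Fin n => coprod.desc f f') k).continuous

theorem isClopen_lset {n : ℕ} (P : Finset (Fin n) → Prop) :
    IsClopen {w : fibPow (coprod.desc f f') n | P (lset f f' w)} := by
  classical
  have hA : ∀ A : Finset (Fin n), IsClopen {w : fibPow (coprod.desc f f') n | lset f f' w = A} := fun A => by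
    have : {w : fibPow (coprod.desc f f') n | lset f f' w = A} =
        ⋂ k, if k ∈ A then {w | InL f f' k w} else {w | InL f f' k w}ᶜ := by
      ext w
      simp only [Set.mem_setOf_eq, Set.mem_iInter, Finset.ext_iff, mem_lset]
      refine forall_congr' fun k => ?_
      split_ifs with h <;> simp [h]
    rw [this]
    refine isClopen_iInter_of_finite fun k => ?_
    split_ifs
    · exact isClopen_inL f f' k
    · exact (isClopen_inL f f' k).compl
  have : {w : fibPow (coprod.desc f f') n | P (lset f f' w)} =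
      ⋃ A : {A : Finset (Fin n) // P A}, {w | lset f f' w = A.1} := by
    ext w
    simp
  rw [this]
  exact isClopen_iUnion_of_finite fun A => hA A.1

theorem lset_perm {n : ℕ} (σ : Equiv.Perm (Fin n)) (w : fibPow (coprod.desc f f') n) (k : Fin n) :
    k ∈ lset f f' (permHom (coprod.desc f f') n σ w) ↔ σ.symm k ∈ lset f f' w := by
  rw [mem_lset, mem_lset, InL, InL, ← Scheme.Hom.comp_apply, permHom_π]

section Piece

variable (i j : ℕ)

/-- The basic piece of `(X ⊔ X')^(i+j)`. -/
noncomputable def piece : Scheme.{u} :=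
  pullback (WidePullback.base fun _ : Fin i => f) (WidePullback.base fun _ : Fin j => f')

/-- Its embedding. -/
noncomputable def emb : piece f f' i j ⟶ fibPow (coprod.desc f f') (i + j) :=
  WidePullback.lift (pullback.fst _ _ ≫ WidePullback.base _)
    (Fin.addCases (fun a => pullback.fst _ _ ≫ WidePullback.π _ a ≫ coprod.inl)
      fun b => pullback.snd _ _ ≫ WidePullback.π _ b ≫ coprod.inr)
    (Fin.addCases (fun a => by simp [WidePullback.π_arrow]) fun b => by
      simp [WidePullback.π_arrow, pullback.condition])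

theorem emb_left (a : Fin i) : emb f f' i j ≫ WidePullback.π _ (Fin.castAdd j a) =
    pullback.fst _ _ ≫ WidePullback.π _ a ≫ coprod.inl := by
  rw [emb, WidePullback.lift_π]; simp

theorem emb_right (b : Fin j) : emb f f' i j ≫ WidePullback.π _ (Fin.natAdd i b) =
    pullback.snd _ _ ≫ WidePullback.π _ b ≫ coprod.inr := by
  rw [emb, WidePullback.lift_π]; simp

theorem emb_base : emb f f' i j ≫ WidePullback.base _ = pullback.fst _ _ ≫ WidePullback.base _ := by
  rw [emb, WidePullback.lift_base]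

/-- The indices of the first block. -/
noncomputable def blk : Finset (Fin (i + j)) := Finset.univ.filter fun k => (k : ℕ) < i

theorem emb_spec : IsOpenImmersion (emb f f' i j) ∧
    Set.range (emb f f' i j) = {w | lset f f' w = blk i j} := by
  classical
  let O : (fibPow (coprod.desc f f') (i + j)).Opens :=
    ⟨{w | lset f f' w = blk i j}, (isClopen_lset f f' fun A => A = blk i j).isOpen⟩
  have hl : ∀ a : Fin i, Set.range (O.ι ≫ WidePullback.π _ (Fin.castAdd j a)) ⊆
      Set.range (coprod.inl : X ⟶ X ⨿ X') := by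
    rintro a _ ⟨w, rfl⟩
    have hw : lset f f' w.1 = blk i j := w.2
    exact (mem_lset f f' w.1 _).1 (hw.symm ▸ by simp [blk])
  have hr : ∀ b : Fin j, Set.range (O.ι ≫ WidePullback.π _ (Fin.natAdd i b)) ⊆
      Set.range (coprod.inr : X' ⟶ X ⨿ X') := by
    rintro b _ ⟨w, rfl⟩
    have hw : lset f f' w.1 = blk i j := w.2
    have : ¬ InL f f' (Fin.natAdd i b) w.1 := fun h => by
      have := (mem_lset f f' w.1 _).2 h
      rw [hw] at this; simp [blk] at this
    rw [← (isCompl_range_inl_inr X X').compl_eq]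
    exact this
  let la : ∀ a : Fin i, (O : Scheme.{u}) ⟶ X := fun a => IsOpenImmersion.lift _ _ (hl a)
  let rb : ∀ b : Fin j, (O : Scheme.{u}) ⟶ X' := fun b => IsOpenImmersion.lift _ _ (hr b)
  have hla : ∀ a, la a ≫ coprod.inl = O.ι ≫ WidePullback.π _ (Fin.castAdd j a) := fun a =>
    IsOpenImmersion.lift_fac _ _ _
  have hrb : ∀ b, rb b ≫ coprod.inr = O.ι ≫ WidePullback.π _ (Fin.natAdd i b) := fun b =>
    IsOpenImmersion.lift_fac _ _ _
  let Bf := WidePullback.base fun _ : Fin (i + j) => coprod.desc f f'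
  have wa : ∀ a, la a ≫ f = O.ι ≫ Bf := fun a => by
    refine (congrArg (la a ≫ ·) (coprod.inl_desc f f').symm).trans ?_
    rw [reassoc_of% (hla a)]
    exact congrArg _ (WidePullback.π_arrow _ _)
  have wb : ∀ b, rb b ≫ f' = O.ι ≫ Bf := fun b => by
    refine (congrArg (rb b ≫ ·) (coprod.inr_desc f f').symm).trans ?_
    rw [reassoc_of% (hrb b)]
    exact congrArg _ (WidePullback.π_arrow _ _)
  let ψ : (O : Scheme.{u}) ⟶ piece f f' i j := pullback.lift (WidePullback.lift (O.ι ≫ Bf) la wa)
    (WidePullback.lift (O.ι ≫ Bf) rb wb) (by rw [WidePullback.lift_base, WidePullback.lift_base])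
  have hrange : Set.range (emb f f' i j) ⊆ Set.range O.ι := by
    rw [Scheme.Opens.range_ι]
    rintro _ ⟨x, rfl⟩
    refine Finset.ext fun k => ?_
    induction k using Fin.addCases with
    | left a =>
      rw [mem_lset, InL, ← Scheme.Hom.comp_apply, emb_left]
      simp [blk]
    | right b =>
      rw [mem_lset, InL, ← Scheme.Hom.comp_apply, emb_right]
      simp only [blk, Finset.mem_filter, Fin.natAdd, not_iff]
      constructor
      · intro h
        exact ((isCompl_range_inl_inr X X').disjoint.le_bot ⟨h, _, rfl⟩).elim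
      · intro h
        exact absurd h.2 (by omega)
  let φ : piece f f' i j ⟶ (O : Scheme.{u}) := IsOpenImmersion.lift O.ι (emb f f' i j) hrange
  have hφ : φ ≫ O.ι = emb f f' i j := IsOpenImmersion.lift_fac _ _ _
  have hψ : ψ ≫ emb f f' i j = O.ι := by
    apply WidePullback.hom_ext
    · intro k
      induction k using Fin.addCases with
      | left a => rw [Category.assoc, emb_left, pullback.lift_fst_assoc, WidePullback.lift_π_assoc, hla]
      | right b => rw [Category.assoc, emb_right, pullback.lift_snd_assoc, WidePullback.lift_π_assoc, hrb]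
    · rw [Category.assoc, emb_base, pullback.lift_fst_assoc, WidePullback.lift_base]
  haveI : IsIso φ := by
    refine ⟨ψ, ?_, by rw [← cancel_mono O.ι, Category.assoc, hφ, hψ, Category.id_comp]⟩
    apply pullback.hom_ext
    · apply WidePullback.hom_ext
      · intro a
        rw [← cancel_mono (coprod.inl : X ⟶ X ⨿ X')]
        simp only [ψ, Category.assoc, pullback.lift_fst_assoc, WidePullback.lift_π_assoc, Category.id_comp]
        rw [hla, reassoc_of% hφ, emb_left]
      · simp only [ψ, Category.assoc, pullback.lift_fst_assoc, WidePullback.lift_base, Category.id_comp]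
        rw [reassoc_of% hφ, emb_base]
    · apply WidePullback.hom_ext
      · intro b
        rw [← cancel_mono (coprod.inr : X' ⟶ X ⨿ X')]
        simp only [ψ, Category.assoc, pullback.lift_snd_assoc, WidePullback.lift_π_assoc, Category.id_comp]
        rw [hrb, reassoc_of% hφ, emb_right]
      · simp only [ψ, Category.assoc, pullback.lift_snd_assoc, WidePullback.lift_base, Category.id_comp]
        rw [reassoc_of% hφ, emb_base]
        exact pullback.condition
  refine ⟨hφ ▸ inferInstance, ?_⟩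
  rw [← hφ, Scheme.Hom.comp_base, TopCat.coe_comp, Set.range_comp,
    show Set.range φ = Set.univ from Set.range_eq_univ.2 φ.homeomorph.surjective, Set.image_univ,
    Scheme.Opens.range_ι]
  rfl

/-- The block permutations. -/
noncomputable def blockHom :
    ULift.{u} (Equiv.Perm (Fin i) × Equiv.Perm (Fin j)) →* ULift.{u} (Equiv.Perm (Fin (i + j))) where
  toFun σ := ⟨finSumFinEquiv.permCongr (Equiv.Perm.sumCongr σ.down.1 σ.down.2)⟩
  map_one' := by ext k; simp
  map_mul' σ τ := by
    refine ULift.ext _ _ (Equiv.ext fun k => ?_)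
    obtain ⟨k, rfl⟩ := finSumFinEquiv.surjective k
    cases k <;> simp [Equiv.Perm.mul_apply]

/-- The action on the piece, as endomorphisms. -/
noncomputable def pieceMap (σ : ULift.{u} (Equiv.Perm (Fin i) × Equiv.Perm (Fin j))) :
    piece f f' i j ⟶ piece f f' i j :=
  pullback.lift (pullback.fst _ _ ≫ permHom f i σ.down.1) (pullback.snd _ _ ≫ permHom f' j σ.down.2)
    (by simp [pullback.condition])

@[reassoc (attr := simp)]
theorem pieceMap_fst (σ : ULift.{u} (Equiv.Perm (Fin i) × Equiv.Perm (Fin j))) :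
    pieceMap f f' i j σ ≫ pullback.fst _ _ = pullback.fst _ _ ≫ permHom f i σ.down.1 :=
  pullback.lift_fst _ _ _

@[reassoc (attr := simp)]
theorem pieceMap_snd (σ : ULift.{u} (Equiv.Perm (Fin i) × Equiv.Perm (Fin j))) :
    pieceMap f f' i j σ ≫ pullback.snd _ _ = pullback.snd _ _ ≫ permHom f' j σ.down.2 :=
  pullback.lift_snd _ _ _

theorem pieceMap_mul (σ τ : ULift.{u} (Equiv.Perm (Fin i) × Equiv.Perm (Fin j))) :
    pieceMap f f' i j (σ * τ) = pieceMap f f' i j τ ≫ pieceMap f f' i j σ := by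
  apply pullback.hom_ext
  · rw [pieceMap_fst, Category.assoc, pieceMap_fst, pieceMap_fst_assoc, ← permHom_mul]; rfl
  · rw [pieceMap_snd, Category.assoc, pieceMap_snd, pieceMap_snd_assoc, ← permHom_mul]; rfl

theorem pieceMap_one : pieceMap f f' i j 1 = 𝟙 _ := by
  apply pullback.hom_ext
  · rw [pieceMap_fst, Category.id_comp, show (1 : ULift.{u} (Equiv.Perm (Fin i) × Equiv.Perm (Fin j))).down.1 = 1 from rfl,
      permHom_one, Category.comp_id]
  · rw [pieceMap_snd, Category.id_comp, show (1 : ULift.{u} (Equiv.Perm (Fin i) × Equiv.Perm (Fin j))).down.2 = 1 from rfl,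
      permHom_one, Category.comp_id]

/-- The action on the piece. -/
noncomputable def pieceAct : ULift.{u} (Equiv.Perm (Fin i) × Equiv.Perm (Fin j)) →* Aut (piece f f' i j) where
  toFun σ := ⟨pieceMap f f' i j σ, pieceMap f f' i j σ⁻¹, by rw [← pieceMap_mul, inv_mul_cancel, pieceMap_one],
    by rw [← pieceMap_mul, mul_inv_cancel, pieceMap_one]⟩
  map_one' := Iso.ext (pieceMap_one f f' i j)
  map_mul' σ τ := Iso.ext (pieceMap_mul f f' i j σ τ)

theorem pieceAct_emb (σ : ULift.{u} (Equiv.Perm (Fin i) × Equiv.Perm (Fin j))) :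
    (pieceAct f f' i j σ).hom ≫ emb f f' i j =
      emb f f' i j ≫ (permActU (coprod.desc f f') (i + j) (blockHom i j σ)).hom := by
  apply WidePullback.hom_ext
  · intro k
    rw [Category.assoc, Category.assoc, permActU_hom, permHom_π]
    induction k using Fin.addCases with
    | left a =>
      rw [emb_left, show (blockHom i j σ).down.symm (Fin.castAdd j a) = Fin.castAdd j (σ.down.1.symm a) by
        rw [Equiv.symm_apply_eq]; simp [blockHom], emb_left]
      simp [pieceAct]
    | right b =>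
      rw [emb_right, show (blockHom i j σ).down.symm (Fin.natAdd i b) = Fin.natAdd i (σ.down.2.symm b) by
        rw [Equiv.symm_apply_eq]; simp [blockHom], emb_right]
      simp [pieceAct]
  · rw [Category.assoc, Category.assoc, permActU_hom, permHom_base, emb_base]
    simp [pieceAct]

theorem exists_blockHom (σ : Equiv.Perm (Fin (i + j))) (h : ∀ k, k ∈ blk i j → σ k ∈ blk i j) :
    ∃ τ : ULift.{u} (Equiv.Perm (Fin i) × Equiv.Perm (Fin j)), blockHom i j τ = ⟨σ⟩ := by
  have hm : finSumFinEquiv.symm.permCongr σ ∈ (Equiv.Perm.sumCongrHom (Fin i) (Fin j)).range := by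
    apply Equiv.Perm.mem_sumCongrHom_range_of_perm_mapsTo_inl
    rintro _ ⟨a, rfl⟩
    have ha := h (Fin.castAdd j a) (by simp [blk])
    simp only [blk, Finset.mem_filter, Finset.mem_univ, true_and] at ha
    refine ⟨⟨_, ha⟩, ?_⟩
    simp only [Equiv.permCongr_apply, Equiv.symm_symm, finSumFinEquiv_apply_left]
    rw [Equiv.eq_symm_apply, finSumFinEquiv_apply_left]
    rfl
  obtain ⟨⟨a, b⟩, hab⟩ := hm
  refine ⟨⟨(a, b)⟩, ULift.ext _ _ ?_⟩
  change finSumFinEquiv.permCongr (Equiv.Perm.sumCongrHom (Fin i) (Fin j) (a, b)) = σ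
  rw [hab]
  ext k
  simp

end Piece

theorem perm_exists {n : ℕ} (A B : Finset (Fin n)) (h : A.card = B.card) :
    ∃ σ : Equiv.Perm (Fin n), ∀ k, σ k ∈ B ↔ k ∈ A := by
  refine ⟨(Finset.equivOfCardEq h).extendSubtype, fun k => ⟨fun hk => ?_, fun hk => ?_⟩⟩
  · by_contra hk'
    exact Equiv.extendSubtype_not_mem _ k hk' hk
  · exact Equiv.extendSubtype_mem _ k hk

theorem perm_lset_card {n : ℕ} (σ : Equiv.Perm (Fin n)) (w : fibPow (coprod.desc f f') n) :
    (lset f f' (permHom (coprod.desc f f') n σ w)).card = (lset f f' w).card :=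
  (Finset.card_equiv σ fun k => by rw [lset_perm, Equiv.symm_apply_apply]).symm

variable [IsLocallyNoetherian Y] (hu : ∀ n : ℕ, 0 < n → IsUnit ((n : ℕ) : Γ(Y, ⊤)))
include hu

/-- The piece of `Sym^(i+j)(X ⊔ X')` with `i` points in `X` is `Sym^i X ×_Y Sym^j X'`. -/
theorem clo_piece {n : ℕ} (i j : ℕ) (hn : i + j = n) {Si Sj T : Scheme.{u}}
    (q : fibPow f i ⟶ Si) (g : Si ⟶ Y) (hq : IsSymProd f i q g)
    (q' : fibPow f' j ⟶ Sj) (g' : Sj ⟶ Y) (hq' : IsSymProd f' j q' g')
    (Q : fibPow (coprod.desc f f') n ⟶ T) (h : T ⟶ Y) (hQ : IsSymProd (coprod.desc f f') n Q h)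
    [LocallyOfFiniteType g] [QuasiCompact g] [LocallyOfFiniteType g'] [QuasiCompact g']
    [LocallyOfFiniteType h] [QuasiCompact h] [IsLocallyNoetherian T]
    (N : T.Opens) (hN : ∀ w, Q w ∈ N ↔ (lset f f' w).card = i) :
    clo h N = K0Var.cl g * K0Var.cl g' := by
  subst hn
  classical
  have hp := hQ.isQuot
  let ρ := permActU (coprod.desc f f') (i + j)
  let W' := Q ⁻¹ᵁ N
  have hst : ∀ a, W' ≤ (ρ a).hom ⁻¹ᵁ W' := fun a => SGA1.preimage_le_of_inv ρ Q hp.inv a N
  let act : ULift.{u} (Equiv.Perm (Fin (i + j))) → ((W' : Scheme.{u}) ⟶ (W' : Scheme.{u})) := fun a =>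
    (ρ a).hom.resLE W' W' (hst a)
  have hact : ∀ a, act a ≫ W'.ι = W'.ι ≫ (ρ a).hom := fun a => Scheme.Hom.resLE_comp_ι _ _
  have hmul : ∀ a b, act (a * b) = act b ≫ act a := fun a b => by
    rw [← cancel_mono W'.ι, hact, Category.assoc, hact, reassoc_of% (hact b), QuotScheme.rho_mul_hom]
  have hone : act 1 = 𝟙 _ := by
    rw [← cancel_mono W'.ι, hact, QuotScheme.rho_one_hom, Category.comp_id, Category.id_comp]
  let ρW : ULift.{u} (Equiv.Perm (Fin (i + j))) →* Aut (W' : Scheme.{u}) :=
    { toFun := fun b => ⟨act b, act b⁻¹, by rw [← hmul, inv_mul_cancel, hone], by rw [← hmul, mul_inv_cancel, hone]⟩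
      map_one' := Iso.ext hone
      map_mul' := fun a b => Iso.ext (hmul a b) }
  have hpW : SGA1.IsQuot ρW (Q ∣_ N) := QuotScheme.restrict hp N ρW hact
  obtain ⟨hoi, hrange⟩ := emb_spec f f' i j
  haveI := hoi
  have hcard : (blk i j).card = i := by
    rw [show blk i j = Finset.univ.map (Fin.castAddEmb j) from Finset.ext fun k => by
      simp only [blk, Finset.mem_filter, Finset.mem_univ, true_and, Finset.mem_map]
      exact ⟨fun hk => ⟨⟨k, hk⟩, rfl⟩, fun ⟨a, ha⟩ => by rw [← ha]; exact a.2⟩]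
    simp
  have hsub : Set.range (emb f f' i j) ⊆ Set.range W'.ι := by
    rw [hrange, Scheme.Opens.range_ι]
    intro w (hw : lset f f' w = blk i j)
    exact (hN w).2 (by rw [hw, hcard])
  let e : piece f f' i j ⟶ (W' : Scheme.{u}) := IsOpenImmersion.lift W'.ι (emb f f' i j) hsub
  have he : e ≫ W'.ι = emb f f' i j := IsOpenImmersion.lift_fac _ _ _
  haveI : IsOpenImmersion e := by
    haveI : IsOpenImmersion (e ≫ W'.ι) := he ▸ hoi
    exact IsOpenImmersion.of_comp e W'.ι
  have hre : ∀ x : W', x ∈ Set.range e ↔ lset f f' x.1 = blk i j := fun x => by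
    constructor
    · rintro ⟨y, rfl⟩
      have : (e y).1 = emb f f' i j y := by rw [← he]; rfl
      have h2 : emb f f' i j y ∈ Set.range (emb f f' i j) := ⟨y, rfl⟩
      rw [hrange] at h2
      rw [this]; exact h2
    · intro hx
      obtain ⟨y, hy⟩ : x.1 ∈ Set.range (emb f f' i j) := by rw [hrange]; exact hx
      exact ⟨y, Subtype.ext (by rw [← hy, ← he]; rfl)⟩
  haveI : IsClosedImmersion e := IsClosedImmersion.of_isPreimmersion e (by
    rw [show Set.range e = W'.ι ⁻¹' {w | lset f f' w = blk i j} from Set.ext fun x => (hre x)]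
    exact (isClopen_lset f f' fun A => A = blk i j).isClosed.preimage W'.ι.continuous)
  have hquot : SGA1.IsQuot (pieceAct f f' i j) (e ≫ Q ∣_ N) := by
    refine isQuot_of_induced hpW e (blockHom i j) _ (fun σ => ?_) (fun w => ?_) (fun a x y hxy => ?_)
    · rw [← cancel_mono W'.ι]
      simp only [Category.assoc]
      rw [show (ρW (blockHom i j σ)).hom ≫ W'.ι = _ from hact _, reassoc_of% he, he, pieceAct_emb]
    · obtain ⟨σ, hσ⟩ := perm_exists (blk i j) (lset f f' w.1) (by rw [hcard, (hN w.1).1 w.2])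
      have hx : (ρW ⟨σ⟩⁻¹).hom w ∈ Set.range e := by
        rw [hre, show ((ρW ⟨σ⟩⁻¹).hom w).1 = permHom _ (i + j) σ⁻¹ w.1 from congr($(hact ⟨σ⟩⁻¹) w)]
        ext k
        rw [lset_perm, ← hσ]
        rfl
      obtain ⟨x, hx⟩ := hx
      refine ⟨⟨σ⟩, x, ?_⟩
      rw [Scheme.Hom.comp_apply, hx, ← Scheme.Hom.comp_apply, ← QuotScheme.rho_mul_hom, mul_inv_cancel,
        QuotScheme.rho_one_hom]
      rfl
    · obtain ⟨τ, hτ⟩ := exists_blockHom i j a.down fun k hk => by
        have h1 := (hre (e x)).1 ⟨x, rfl⟩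
        have h2 := (hre ((ρW a).hom (e x))).1 (hxy ▸ ⟨y, rfl⟩)
        rw [show ((ρW a).hom (e x)).1 = permHom _ (i + j) a.down (e x).1 from congr($(hact a) (e x))] at h2
        rw [← h2, lset_perm, Equiv.symm_apply_apply, h1]
        exact hk
      exact ⟨τ, hτ⟩
  have hquot' := SymProdLib.isQuot_prod_symProd f f' i j (Or.inr hu) q g hq q' g' hq' (pieceAct f f' i j)
    fun σ => ⟨pieceMap_fst f f' i j σ, pieceMap_snd f f' i j σ⟩
  obtain ⟨a, ha, -⟩ := QuotScheme.existsUnique_desc hquot _ hquot'.inv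
  obtain ⟨b, hb, -⟩ := QuotScheme.existsUnique_desc hquot' _ hquot.inv
  haveI := QuotScheme.epi hquot
  haveI := QuotScheme.epi hquot'
  let P := pullback.map (WidePullback.base fun _ : Fin i => f) (WidePullback.base fun _ : Fin j => f') g g' q q'
    (𝟙 Y) ((Category.comp_id _).trans hq.over.symm) ((Category.comp_id _).trans hq'.over.symm)
  have hab : a ≫ b = 𝟙 _ := (cancel_epi (e ≫ Q ∣_ N)).1 (by
    refine ((Category.assoc _ _ _).symm.trans ?_).trans (Category.comp_id _).symm
    exact (congrArg (· ≫ b) ha).trans hb)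
  have hba : b ≫ a = 𝟙 _ := (cancel_epi P).1 (by
    refine ((Category.assoc _ _ _).symm.trans ?_).trans (Category.comp_id _).symm
    exact (congrArg (· ≫ a) hb).trans ha)
  let iso : (N : Scheme.{u}) ≅ pullback g g' := ⟨a, b, hab, hba⟩
  rw [clo, ← K0Var.cl_mul]
  refine K0Var.cl_congr _ _ iso ((cancel_epi (e ≫ Q ∣_ N)).1 ?_)
  refine ((Category.assoc _ _ _).symm.trans (congrArg (· ≫ pullback.fst g g' ≫ g) ha)).trans ?_
  rw [pullback.lift_fst_assoc, Category.assoc, Category.assoc, morphismRestrict_ι_assoc, hq.over, hQ.over,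
    reassoc_of% he, emb_base]

/-- Symmetric powers of a disjoint union. -/
theorem cl_symProd_coprod (n : ℕ) {Si Sj : ℕ → Scheme.{u}} {T : Scheme.{u}}
    (q : ∀ m, fibPow f m ⟶ Si m) (g : ∀ m, Si m ⟶ Y) (hq : ∀ m, IsSymProd f m (q m) (g m))
    (q' : ∀ m, fibPow f' m ⟶ Sj m) (g' : ∀ m, Sj m ⟶ Y) (hq' : ∀ m, IsSymProd f' m (q' m) (g' m))
    (Q : fibPow (coprod.desc f f') n ⟶ T) (h : T ⟶ Y) (hQ : IsSymProd (coprod.desc f f') n Q h)
    [∀ m, LocallyOfFiniteType (g m)] [∀ m, QuasiCompact (g m)]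
    [∀ m, LocallyOfFiniteType (g' m)] [∀ m, QuasiCompact (g' m)]
    [LocallyOfFiniteType h] [QuasiCompact h] :
    K0Var.cl h = ∑ a ∈ Finset.HasAntidiagonal.antidiagonal n, K0Var.cl (g a.1) * K0Var.cl (g' a.2) := by
  classical
  haveI : IsLocallyNoetherian T := LocallyOfFiniteType.isLocallyNoetherian h
  have hp := hQ.isQuot
  let M : ℕ → Set T := fun i => (Q.base '' {w | (lset f f' w).card ≠ i})ᶜ
  let N : ℕ × ℕ → T.Opens := fun a => ⟨M a.1,
    (QuotScheme.isClosedMap hp _ (isClopen_lset f f' fun A => A.card ≠ a.1).isClosed).isOpen_compl⟩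
  have hN : ∀ a w, Q w ∈ N a ↔ (lset f f' w).card = a.1 := fun a w => by
    refine ⟨fun hw => by_contra fun hne => hw ⟨w, hne, rfl⟩, fun hw => ?_⟩
    rintro ⟨w', hne, heq⟩
    obtain ⟨σ, hσ⟩ := (QuotScheme.orbit_iff hp w' w).1 heq
    refine hne ?_
    rw [← hw, ← hσ]
    exact (perm_lset_card f f' σ.down w').symm
  have hd : ∀ a b : Finset.HasAntidiagonal.antidiagonal n, a ≠ b → N a.1 ⊓ N b.1 = ⊥ := fun a b hab =>
    le_bot_iff.1 fun t ht => by
      obtain ⟨w, rfl⟩ := QuotScheme.surjective hp t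
      refine (hab (Subtype.ext ?_)).elim
      have e1 := ((hN _ w).1 ht.1).symm.trans ((hN _ w).1 ht.2)
      have := Finset.HasAntidiagonal.mem_antidiagonal.1 a.2
      have := Finset.HasAntidiagonal.mem_antidiagonal.1 b.2
      exact Prod.ext e1 (by omega)
  have htop : (Finset.univ : Finset (Finset.HasAntidiagonal.antidiagonal n)).sup (fun a => N a.1) = ⊤ := top_le_iff.1 fun t _ => by
    obtain ⟨w, rfl⟩ := QuotScheme.surjective hp t
    have hle : (lset f f' w).card ≤ n := (Finset.card_le_univ _).trans (le_of_eq (Fintype.card_fin n))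
    exact Finset.le_sup (f := fun a : Finset.HasAntidiagonal.antidiagonal n => N a.1)
      (Finset.mem_univ ⟨((lset f f' w).card, n - (lset f f' w).card),
        Finset.HasAntidiagonal.mem_antidiagonal.2 (by omega)⟩) ((hN _ w).2 rfl)
  rw [← clo_top h, ← htop, clo_biSup h _ _ hd, Finset.univ_eq_attach,
    ← Finset.sum_attach (Finset.HasAntidiagonal.antidiagonal n) fun a => K0Var.cl (g a.1) * K0Var.cl (g' a.2)]
  exact Finset.sum_congr rfl fun a _ => clo_piece f f' hu a.1.1 a.1.2 (Finset.HasAntidiagonal.mem_antidiagonal.1 a.2)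
    _ _ (hq _) _ _ (hq' _) Q h hQ _ (hN a.1)

end Groth.Agent.K0Sym
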